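import Cfsg.Agent.Lib.ToddCox.Glue
set_option autoImplicit false
set_option maxRecDepth 100000
namespace Cfsg.Agent.Lib.ToddCox.A6T
def E_0 : ℕ := 0x50c00001000001030000050000050800001000001020000050000050400001000001010000050000050000001000001040000050000030c00000c00000c30000030000030800000c00000c20000030000020c00000800000830000020000021000000800000800000020000010400000400000410000010000011000000400000400000010000000800000000000020000000000000400000000000010000000000001000000000000000000000000030000001400001440000030000031000001000001000000030000020400000c00000c10000020000010800000800000820000010000000c0000040000043000000
end Cfsg.Agent.Lib.ToddCox.A6T
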